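import Cfsg.Agent.Lib.KC.Defs
import Cfsg.Agent.Lib.Nine.C

/-! Group theoretic lemmas for the class-equation search. -/

set_option autoImplicit false

open Cfsg Cfsg.Agent.Char Cfsg.Agent.KC
open scoped ComplexConjugate Classical

namespace Cfsg.Agent.KCP

universe u

theorem card_cent_quot {S : Type*} [Group S] [Finite S] (N : Subgroup S) [N.Normal] (x : S) :
    cc (x : S ⧸ N) ≤ cc x := by
  let D := (Subgroup.centralizer ({(x : S ⧸ N)} : Set (S ⧸ N))).comap (QuotientGroup.mk' N)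
  have h1 : Nat.card D = cc (x : S ⧸ N) * Nat.card N := by
    have h2 := D.index_mul_card
    have h3 := (Subgroup.centralizer ({(x : S ⧸ N)} : Set (S ⧸ N))).index_mul_card
    rw [Subgroup.index_comap_of_surjective _ (QuotientGroup.mk'_surjective N),
      N.card_eq_card_quotient_mul_card_subgroup, ← h3, mul_assoc] at h2
    exact Nat.eq_of_mul_eq_mul_left (Nat.pos_of_ne_zero Subgroup.index_ne_zero_of_finite) h2
  have h4 : ∀ g : D, g.1 * x * g.1⁻¹ * x⁻¹ ∈ N := fun g => by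
    rw [← QuotientGroup.eq_one_iff]
    have := Subgroup.mem_centralizer_singleton_iff.1 g.2
    simp only [QuotientGroup.mk'_apply] at this
    simp only [QuotientGroup.mk_mul, QuotientGroup.mk_inv, this]
    group
  have h5 : ∀ n : N, ∃ r : S, (∃ g : D, g.1 * x * g.1⁻¹ * x⁻¹ = n) → r * x * r⁻¹ * x⁻¹ = n := fun n => by
    by_cases e : ∃ g : D, g.1 * x * g.1⁻¹ * x⁻¹ = n
    · obtain ⟨g, e⟩ := e
      exact ⟨g, fun _ => e⟩
    · exact ⟨1, fun e' => absurd e' e⟩
  choose r hr using h5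
  have h6 : Nat.card D ≤ cc x * Nat.card N := by
    rw [cc, ← Nat.card_prod]
    refine Nat.card_le_card_of_injective (fun g => (⟨(r ⟨_, h4 g⟩)⁻¹ * g.1, ?_⟩, ⟨_, h4 g⟩))
      fun a b e => ?_
    · have := mul_right_cancel (hr ⟨_, h4 g⟩ ⟨g, rfl⟩)
      rw [Subgroup.mem_centralizer_singleton_iff]
      generalize r ⟨_, h4 g⟩ = s at this ⊢
      calc _ = s⁻¹ * (g.1 * x * g.1⁻¹) * g.1 := by group
        _ = _ := by rw [← this]; group
    · have e1 := congrArg (fun p => p.1.1) e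
      have e2 := congrArg Prod.snd e
      simp only at e1 e2
      rw [e2] at e1
      exact Subtype.ext (mul_left_cancel e1)
  rw [h1] at h6
  exact Nat.le_of_mul_le_mul_right h6 Nat.card_pos

theorem five_le {S : Type*} [Group S] [Finite S] {x y z u : S} (hy : Commute y x)
    (hz : Commute z x) (hu : Commute u x)
    (z1 : z ≠ 1) (u1 : u ≠ 1) (zu : z ≠ u) (zu1 : z * u ≠ 1) (x1 : y ≠ 1) (xz : y ≠ z) (xu : y ≠ u)
    (xzu : y ≠ z * u) : 5 ≤ cc x := by
  have h : ({y, 1, z, u, z * u} : Set S) ⊆ Subgroup.centralizer ({x} : Set S) := by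
    rintro y (rfl | rfl | rfl | rfl | rfl)
    · exact Subgroup.mem_centralizer_singleton_iff.2 hy
    · exact one_mem _
    · exact Subgroup.mem_centralizer_singleton_iff.2 hz
    · exact Subgroup.mem_centralizer_singleton_iff.2 hu
    · exact Subgroup.mem_centralizer_singleton_iff.2 (hz.mul_left hu)
  have h1 := Set.ncard_le_ncard h (Set.toFinite _)
  rw [Set.ncard_insert_of_notMem (by simp [x1, xz, xu, xzu]),
    Set.ncard_insert_of_notMem (by simp [z1.symm, u1.symm, zu1.symm]),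
    Set.ncard_insert_of_notMem (by simp [zu, u1]), Set.ncard_pair (by simp [z1])] at h1
  exact h1

theorem cyc_index_two (n : ℕ) : ∀ (S : Type u) [Group S] [Finite S], Nat.card S = 2 ^ (n + 3) →
    ∀ x : S, cc x ≤ 4 → ∃ y : S, orderOf y = 2 ^ (n + 2) := by
  induction n with
  | zero =>
    intro S _ _ hS x hx
    by_contra hne
    have h1 : ∀ y : S, y * y = 1 := fun y => by
      have h2 := orderOf_dvd_natCard y
      rw [hS] at h2
      obtain ⟨k, hk, e⟩ := (Nat.dvd_prime_pow Nat.prime_two).1 h2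
      rw [← pow_two, ← orderOf_dvd_iff_pow_eq_one, e]
      interval_cases k
      · norm_num
      · norm_num
      · exact absurd ⟨y, e⟩ hne
      · exact absurd ⟨y ^ 2, by rw [orderOf_pow' _ two_ne_zero, e]; norm_num⟩ hne
    have h2 : Subgroup.centralizer ({x} : Set S) = ⊤ := eq_top_iff.2 fun g _ =>
      Subgroup.mem_centralizer_singleton_iff.2 (by
        rw [← inv_eq_of_mul_eq_one_right (h1 (g * x)), mul_inv_rev,
          inv_eq_of_mul_eq_one_right (h1 x), inv_eq_of_mul_eq_one_right (h1 g)])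
    rw [cc, h2, Subgroup.card_top, hS] at hx
    omega
  | succ n ih =>
    intro S _ _ hS x hx
    have := Fact.mk Nat.prime_two
    have hP : IsPGroup 2 S := IsPGroup.of_card hS
    have : Nontrivial S := Finite.one_lt_card_iff_nontrivial.1 (by
      rw [hS]; exact Nat.one_lt_two_pow (by omega))
    have := hP.center_nontrivial
    obtain ⟨k, hk, e⟩ := (hP.to_subgroup (Subgroup.center S)).nontrivial_iff_card.1 this
    obtain ⟨⟨z, hz⟩, hz2⟩ := exists_prime_orderOf_dvd_card' (G := Subgroup.center S) 2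
      (e ▸ dvd_pow_self 2 hk.ne')
    rw [← Subgroup.orderOf_coe] at hz2
    simp only at hz2
    have hzc : ∀ g, Commute g z := Subgroup.mem_center_iff.1 hz
    have hz1 : z ≠ 1 := Nine.ne_one_of_orderOf Nat.prime_two hz2
    have hzz : z ^ 2 = 1 := hz2 ▸ pow_orderOf_eq_one z
    have : (Subgroup.zpowers z).Normal := ⟨fun m hm g => by
      obtain ⟨i, rfl⟩ := hm
      rw [((hzc g).zpow_right i).eq, mul_inv_cancel_right]
      exact ⟨i, rfl⟩⟩
    have hq : Nat.card (S ⧸ Subgroup.zpowers z) = 2 ^ (n + 3) := by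
      have := (Subgroup.zpowers z).card_eq_card_quotient_mul_card_subgroup
      rw [hS, Nat.card_zpowers, hz2, pow_succ] at this
      omega
    obtain ⟨a, ha⟩ := ih _ hq (x : S ⧸ Subgroup.zpowers z) ((card_cent_quot _ x).trans hx)
    obtain ⟨a, rfl⟩ := QuotientGroup.mk_surjective a
    have hmem : ∀ g ∈ Subgroup.zpowers z, g = 1 ∨ g = z := fun g hg => by
      obtain ⟨i, rfl⟩ := (mem_powers_iff_mem_zpowers.2 hg : g ∈ Submonoid.powers z)
      simp only
      rw [← pow_mod_orderOf, hz2]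
      rcases Nat.mod_two_eq_zero_or_one i with e | e <;> simp [e]
    have h1 : a ^ 2 ^ (n + 2) ∈ Subgroup.zpowers z := by
      rw [← QuotientGroup.eq_one_iff, QuotientGroup.mk_pow, ← ha, pow_orderOf_eq_one]
    have h2 : a ^ 2 ^ (n + 1) ∉ Subgroup.zpowers z := by
      rw [← QuotientGroup.eq_one_iff, QuotientGroup.mk_pow, ← orderOf_dvd_iff_pow_eq_one, ha,
        Nat.pow_dvd_pow_iff_le_right one_lt_two]
      omega
    rcases hmem _ h1 with e1 | e1
    swap
    · exact ⟨a, orderOf_eq_prime_pow (e1 ▸ hz1) (by rw [pow_succ, pow_mul, e1, hzz])⟩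
    exfalso
    have hi : (Subgroup.zpowers (a : S ⧸ Subgroup.zpowers z)).index = 2 := by
      have := (Subgroup.zpowers (a : S ⧸ Subgroup.zpowers z)).index_mul_card
      rw [Nat.card_zpowers, ha, hq, pow_succ' 2 (n + 2)] at this
      exact Nat.eq_of_mul_eq_mul_right (by positivity) this
    have hA : ∀ g : S, (g : S ⧸ Subgroup.zpowers z) ∈ Subgroup.zpowers (a : S ⧸ Subgroup.zpowers z) →
        ∃ i : ℕ, g = a ^ i ∨ g = a ^ i * z := fun g hg => by
      obtain ⟨i, e⟩ := mem_powers_iff_mem_zpowers.2 hg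
      simp only at e
      rw [← QuotientGroup.mk_pow, QuotientGroup.eq] at e
      refine ⟨i, (hmem _ e).imp (fun e => ?_) fun e => ?_⟩
      · exact (inv_mul_eq_one.1 e).symm
      · rw [← e, mul_inv_cancel_left]
    have hu1 : a ^ 2 ^ (n + 1) ≠ 1 := fun e => h2 (e ▸ one_mem _)
    have huz : z ≠ a ^ 2 ^ (n + 1) := fun e => h2 (e ▸ Subgroup.mem_zpowers z)
    have huu : (a ^ 2 ^ (n + 1)) ^ 2 = 1 := by rw [← pow_mul, ← pow_succ, e1]
    have huz1 : z * a ^ 2 ^ (n + 1) ≠ 1 := fun e => h2 (by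
      rw [eq_inv_of_mul_eq_one_right e]; exact inv_mem (Subgroup.mem_zpowers z))
    have hux : Commute (a ^ 2 ^ (n + 1)) x := by
      obtain ⟨i, e⟩ := hA (x * a * x⁻¹) ((Subgroup.normal_of_index_eq_two hi).conj_mem _
        (Subgroup.mem_zpowers _) (x : S ⧸ Subgroup.zpowers z))
      have h3 : x * a ^ 2 ^ (n + 1) * x⁻¹ = (a ^ 2 ^ (n + 1)) ^ i := by
        rw [← conj_pow, pow_right_comm]
        rcases e with e | e
        · rw [e]
        · rw [e, (hzc _).mul_pow, pow_succ' 2 n, pow_mul z, hzz, one_pow, mul_one]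
      generalize a ^ 2 ^ (n + 1) = u at h3 hu1 huu ⊢
      rw [← Nat.div_add_mod i 2, pow_add, pow_mul, huu, one_pow, one_mul] at h3
      rcases Nat.mod_two_eq_zero_or_one i with e | e <;> rw [e] at h3
      · exact absurd (by simpa using h3) hu1
      · rw [pow_one, mul_inv_eq_iff_eq_mul] at h3
        exact h3.symm
    have key : ∀ y, Commute y x → y ≠ 1 → y ≠ z → y ≠ a ^ 2 ^ (n + 1) → y ≠ z * a ^ 2 ^ (n + 1) →
        False := fun y hy e1 e2 e3 e4 => by
      have := five_le hy (hzc x).symm hux hz1 hu1 huz huz1 e1 e2 e3 e4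
      omega
    by_cases hxa : Commute a x
    · have h3 : a ^ 2 ≠ 1 := fun e => hu1 (by rw [pow_succ', pow_mul, e, one_pow])
      refine key a hxa (fun e => h3 ?_) (fun e => h3 ?_) (fun e => h3 ?_) fun e => h3 ?_
      · rw [e, one_pow]
      · rw [e, hzz]
      · rw [e, huu]
      · rw [e, (hzc _).symm.mul_pow, hzz, huu, one_mul]
    · refine key x rfl (fun e => hxa ?_) (fun e => hxa ?_) (fun e => hxa ?_) fun e => hxa ?_
      · rw [e]; exact Commute.one_right _
      · rw [e]; exact hzc a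
      · rw [e]; exact Commute.self_pow _ _
      · rw [e]; exact (hzc a).mul_right (Commute.self_pow _ _)

variable {G : Type*} [Group G] [Finite G]

theorem t2 {x : G} {a n m : ℕ} (hx : orderOf x = 2 ^ a) (ha : 1 ≤ a) (h8 : ¬ 8 ∣ cc x)
    (hg : Nat.card G = 2 ^ n * m) (hm : Odd m) (hn : 3 ≤ n) : ∃ y : G, orderOf y = 2 ^ (n - 1) := by
  have := Fact.mk Nat.prime_two
  obtain ⟨P, hP⟩ := (Alt.isPGroup_zpowers_of_pow (p := 2) (k := a) (y := x)
    (hx ▸ pow_orderOf_eq_one x)).exists_le_sylow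
  obtain ⟨n, rfl⟩ : ∃ k, n = k + 3 := ⟨n - 3, by omega⟩
  have h1 := Alt.card_sylow_of_eq P hg (by rw [← even_iff_two_dvd, Nat.not_even_iff_odd]; exact hm)
  obtain ⟨y, hy⟩ := cyc_index_two n P h1 ⟨x, hP (Subgroup.mem_zpowers x)⟩ (by
    obtain ⟨k, hk⟩ := (P.2.to_subgroup (Subgroup.centralizer
      {(⟨x, hP (Subgroup.mem_zpowers x)⟩ : (P : Subgroup G))})).exists_card_eq
    have h2 : 2 ^ k ∣ cc x := by
      rw [← hk, ← Subgroup.card_map_of_injective (P : Subgroup G).subtype_injective]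
      refine Subgroup.card_dvd_of_le ?_
      rintro _ ⟨g, hg, rfl⟩
      exact Subgroup.mem_centralizer_singleton_iff.2
        (congrArg Subtype.val (Subgroup.mem_centralizer_singleton_iff.1 hg))
    rw [cc, hk]
    by_contra e
    have h3 : 3 ≤ k := by
      by_contra e1
      exact e (Nat.pow_le_pow_right two_pos (show k ≤ 2 by omega))
    exact h8 ((pow_dvd_pow 2 h3).trans h2))
  exact ⟨y, by rw [Subgroup.orderOf_coe, hy]; rfl⟩

theorem sq {z w : G} {m q : ℕ} (hq : q.Prime) (hqm : ¬ q ∣ m) (hz : orderOf z = m * q)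
    (hw : orderOf w = m * q) (h : RC (z ^ q) (w ^ q)) (h2 : ¬ q ^ 2 ∣ cc (z ^ q)) : RC z w := by
  have := Fact.mk hq
  obtain ⟨j, hj, h⟩ := h
  obtain ⟨g, hg⟩ := isConj_iff.1 h.symm
  have hm0 : m ≠ 0 := fun e => hqm (e ▸ dvd_zero q)
  have hw' : orderOf (g * w * g⁻¹) = m * q := by
    rw [← orderOf_isConj (isConj_iff.2 ⟨g, rfl⟩), hw]
  rw [← conj_pow] at hg
  refine RC.trans ?_ (RC.of_isConj (isConj_iff.2 ⟨g, rfl⟩ : IsConj w (g * w * g⁻¹)).symm)
  generalize g * w * g⁻¹ = v at hg hw'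
  let C := Subgroup.centralizer ({z ^ q} : Set G)
  have hzC : z ∈ C := Subgroup.mem_centralizer_singleton_iff.2 (Commute.self_pow z q)
  have hvC : v ∈ C := by
    have : z ^ q ∈ Subgroup.zpowers (v ^ q) := by
      rw [hg, zpowers_pow_coprime hj]; exact Subgroup.mem_zpowers _
    obtain ⟨k, hk⟩ := this
    refine Subgroup.mem_centralizer_singleton_iff.2 ?_
    rw [← hk]
    exact (Commute.self_pow v q).zpow_right k
  have ho : ∀ y : G, orderOf y = m * q → orderOf (y ^ m) = q := fun y hy => by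
    rw [orderOf_pow' _ hm0, hy, Nat.gcd_mul_right_left, Nat.mul_div_cancel_left _ (Nat.pos_of_ne_zero hm0)]
  have hs : ∀ y (hy : y ∈ C), orderOf y = m * q → ∃ P : Sylow q C,
      (P : Subgroup C) = Subgroup.zpowers ⟨y ^ m, pow_mem hy m⟩ := fun y hy e => by
    have h3 : Nat.card (Subgroup.zpowers (⟨y ^ m, pow_mem hy m⟩ : C)) = q := by
      rw [Nat.card_zpowers, ← Subgroup.orderOf_coe]; exact ho y e
    refine ⟨IsPGroup.toSylow (IsPGroup.of_card (n := 1) (h3.trans (pow_one q).symm)) fun e1 => h2 ?_, rfl⟩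
    have h4 := (Subgroup.zpowers (⟨y ^ m, pow_mem hy m⟩ : C)).index_mul_card
    rw [h3] at h4
    rw [cc, ← h4, pow_two]
    exact mul_dvd_mul_right e1 q
  obtain ⟨P, hP⟩ := hs z hzC hz
  obtain ⟨Q, hQ⟩ := hs v hvC hw'
  obtain ⟨c, hc⟩ := MulAction.exists_smul_eq C Q P
  have h5 : c.1 * v ^ m * c.1⁻¹ ∈ Subgroup.zpowers z := by
    have h6 : (⟨v ^ m, pow_mem hvC m⟩ : C) ∈ (Q : Subgroup C) := hQ ▸ Subgroup.mem_zpowers _
    have h7 : c * ⟨v ^ m, pow_mem hvC m⟩ * c⁻¹ ∈ (P : Subgroup C) := by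
      rw [← hc, Sylow.coe_subgroup_smul]
      exact Subgroup.smul_mem_pointwise_smul _ _ _ h6
    rw [hP] at h7
    obtain ⟨k, hk⟩ := h7
    have h8 := congrArg Subtype.val hk
    simp only [SubgroupClass.coe_zpow, Subgroup.coe_mul, Subgroup.coe_inv] at h8
    rw [← h8]
    exact zpow_mem (pow_mem (Subgroup.mem_zpowers z) m) k
  have h6 : c.1 * v ^ q * c.1⁻¹ ∈ Subgroup.zpowers z := by
    rw [hg, ((show Commute c.1 (z ^ q) from
      Subgroup.mem_centralizer_singleton_iff.1 c.2).pow_right j).eq, mul_inv_cancel_right]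
    exact pow_mem (pow_mem (Subgroup.mem_zpowers z) q) j
  rw [← conj_pow] at h5 h6
  have h7 : c.1 * v * c.1⁻¹ ∈ Subgroup.zpowers z := by
    have h8 := Nat.gcd_eq_gcd_ab q m
    rw [(hq.coprime_iff_not_dvd.2 hqm : q.gcd m = 1)] at h8
    rw [← zpow_one (c.1 * v * c.1⁻¹), show (1 : ℤ) = _ from h8, zpow_add, zpow_mul, zpow_mul,
      zpow_natCast, zpow_natCast]
    exact mul_mem (zpow_mem h6 _) (zpow_mem h5 _)
  obtain ⟨k, hk⟩ := mem_powers_iff_mem_zpowers.2 h7
  simp only at hk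
  refine ⟨k, ?_, hk ▸ (isConj_iff.2 ⟨c.1, rfl⟩ : IsConj v _).symm⟩
  have h8 : orderOf (z ^ k) = orderOf z := by
    rw [hk, ← orderOf_isConj (isConj_iff.2 ⟨c.1, rfl⟩), hw', hz]
  rw [orderOf_pow z] at h8
  have := Nat.div_mul_cancel (Nat.gcd_dvd_left (orderOf z) k)
  rw [h8] at this
  exact Nat.Coprime.symm (Nat.eq_of_mul_eq_mul_left (orderOf_pos z) (this.trans (mul_one _).symm))

section Simple
variable [IsSimpleGroup G] (hG : ¬ IsMulCommutative G)
include hG

open Nine

theorem not_primePow {x : G} (hx : x ≠ 1) {p a : ℕ} (hp : p.Prime) :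
    Nat.card G ≠ cc x * p ^ a := fun h => by
  have := Fintype.ofFinite G
  have := Fintype.ofFinite (IrrCharacter G)
  have hi : (Cz x).index = p ^ a := by
    have := (Cz x).index_mul_card
    rw [h, mul_comm] at this
    exact Nat.eq_of_mul_eq_mul_left (cc_pos x) this
  have h1 := second_orthogonality x 1
  rw [if_neg fun e => hx (isConj_one_left.1 e), ← Finset.add_sum_erase _ _ (Finset.mem_univ (triv G))]
    at h1
  simp only [triv_apply, map_one, mul_one, apply_one, map_natCast] at h1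
  have hp0 : (p : ℂ) ≠ 0 := by exact_mod_cast hp.ne_zero
  have h2 : IsIntegral ℤ (∑ χ ∈ Finset.univ.erase (triv G), χ.1 x * dg χ / p) := by
    refine IsIntegral.sum _ fun χ hχ => ?_
    by_cases e : p ∣ dg χ
    · obtain ⟨k, hk⟩ := e
      rw [hk, Nat.cast_mul, mul_div_assoc, mul_div_cancel_left₀ _ hp0]
      exact (isIntegral_char (ch χ) x).mul (isIntegral_algebraMap (x := (k : ℤ)))
    · rw [burnside hG (Finset.ne_of_mem_erase hχ) hx
        (hi ▸ (hp.coprime_iff_not_dvd.2 e).symm.pow_right a), zero_mul, zero_div]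
      exact isIntegral_zero
  rw [← Finset.sum_div, eq_neg_of_add_eq_zero_right h1] at h2
  have h3 := dvd_of_isIntegral_div (a := -1) (b := p) (by exact_mod_cast hp.ne_zero)
    (by simpa using h2)
  exact hp.not_dvd_one (by exact_mod_cast (dvd_neg.1 h3))

theorem cyc {x : G} {n m : ℕ} (hg : Nat.card G = 2 ^ n * m) (hm : Odd m) (hn : 1 ≤ n) :
    orderOf x ≠ 2 ^ n := fun hx => by
  have := Fact.mk Nat.prime_two
  obtain ⟨P, hP⟩ := (Alt.isPGroup_zpowers_of_pow (p := 2) (k := n) (y := x)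
    (hx ▸ pow_orderOf_eq_one x)).exists_le_sylow
  have h1 := Alt.card_sylow_of_eq P hg (by rw [← even_iff_two_dvd, Nat.not_even_iff_odd]; exact hm)
  have h2 : Subgroup.zpowers x = P :=
    Subgroup.eq_of_le_of_card_ge hP (by rw [Nat.card_zpowers, hx, h1])
  have h3 : 2 ∣ Nat.card G := hg ▸ (dvd_pow_self 2 (by omega)).mul_right m
  obtain ⟨g, h4, h5⟩ := exists_not_cent hG P h3
  exact h5 (IsCyclic.normalizer_le_centralizer ((Nat.minFac_eq_two_iff _).2 h3)
    (h2 ▸ inferInstance) h4)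

theorem isConj_inv_three {x : G} (hx : orderOf x = 3) (hc : cc x = 3) : IsConj x x⁻¹ := by
  have := Fact.mk Nat.prime_three
  have hx3 : x ^ 3 = 1 := hx ▸ pow_orderOf_eq_one x
  have hx1 := ne_one_of_orderOf Nat.prime_three hx
  have hC : Subgroup.zpowers x = Cz x := Subgroup.eq_of_le_of_card_ge
    (Subgroup.zpowers_le.2 (mem_Cz.2 rfl)) (by rw [Nat.card_zpowers, hx]; exact hc.le)
  obtain ⟨P, hP⟩ := (Alt.isPGroup_zpowers_of_pow (p := 3) (k := 1) (y := x)
    (by simpa using hx3)).exists_le_sylow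
  have h3 : 3 ∣ Nat.card G := hx ▸ orderOf_dvd_natCard x
  have hP2 : Subgroup.zpowers x = P := by
    refine le_antisymm hP fun y hy => ?_
    obtain ⟨z, hz, ho, hz'⟩ := SL2.exists_central_of_isPGroup P.2 (P.ne_bot_of_dvd_card h3)
    have h4 : z ∈ Subgroup.zpowers x := by
      rw [hC, mem_Cz]
      exact (hz' x (hP (Subgroup.mem_zpowers x))).symm
    have h5 : Commute y z := hz' y hy
    rw [hC, mem_Cz]
    rcases mem_zpowers_three hx3 h4 with e | e | e
    · exact absurd e (ne_one_of_orderOf Nat.prime_three ho)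
    · exact e ▸ h5
    · exact Commute.inv_right_iff.1 (e ▸ h5)
  obtain ⟨g, hg, hg2⟩ := exists_not_cent hG P h3
  have h2 : g * x * g⁻¹ ∈ Subgroup.zpowers x := by
    rw [hP2]; exact (Subgroup.mem_normalizer_iff.1 hg x).1 (hP (Subgroup.mem_zpowers x))
  rcases mem_zpowers_three hx3 h2 with e | e | e
  · exact absurd (by simpa [mul_inv_eq_iff_eq_mul] using e) hx1
  · refine absurd (Subgroup.mem_centralizer_iff.2 fun y hy => ?_) hg2
    have hy' : y ∈ Subgroup.zpowers x := by rw [hP2]; exact hy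
    obtain ⟨k, rfl⟩ := Subgroup.mem_zpowers_iff.1 hy'
    exact ((show Commute x g from (mul_inv_eq_iff_eq_mul.1 e).symm).zpow_left k).eq
  · exact isConj_iff.2 ⟨g, e⟩

theorem exists_inverter {x t : G} (hx : orderOf x = 3) (hC : cc x = 3) (ht : orderOf t = 2) :
    ∃ s, IsConj t s ∧ s * x * s⁻¹ = x⁻¹ := by
  have := Fintype.ofFinite G
  have := Fintype.ofFinite (IrrCharacter G)
  have hx3 : x ^ 3 = 1 := hx ▸ pow_orderOf_eq_one x
  have hr := isConj_inv_three hG hx hC
  choose c hc1 hc2 using fun χ : IrrCharacter G => exists_int_three χ hx3 hr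
  have hc0 : c (triv G) = 1 := by
    have := hc1 (triv G); rw [triv_apply] at this; exact_mod_cast this.symm
  have h1 : ∑ χ ∈ Finset.univ.erase (triv G), c χ ^ 2 = 2 := by
    have := second_orthogonality x x
    rw [if_pos (IsConj.refl x), show Nat.card (Cz x) = 3 from hC,
      ← Finset.add_sum_erase _ _ (Finset.mem_univ (triv G))] at this
    simp only [hc1, hc0, map_intCast, ← pow_two] at this
    have h2 : ((1 : ℤ) ^ 2 + ∑ χ ∈ Finset.univ.erase (triv G), c χ ^ 2 : ℤ) = (3 : ℕ) := by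
      exact_mod_cast this
    omega
  obtain ⟨A, hA, B, hB, hAB, hcA, hcB, h0⟩ := exists_two h1
  have hA' := Finset.ne_of_mem_erase hA
  have hB' := Finset.ne_of_mem_erase hB
  have h0' : ∀ χ, χ ≠ triv G → χ ≠ A → χ ≠ B → c χ = 0 := fun χ e1 e2 e3 =>
    h0 χ (Finset.mem_erase.2 ⟨e1, Finset.mem_univ _⟩) e2 e3
  have h2 : ∀ g, ¬ IsConj g x → 1 + A.1 g * c A + B.1 g * c B = 0 := fun g hg => by
    have := second_orthogonality g x
    rw [if_neg hg, sum_eq_three hA' hB' hAB fun χ e1 e2 e3 => by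
      rw [hc1, h0' χ e1 e2 e3]; simp] at this
    simpa [hc1, hc0] using this
  have hx1 := ne_one_of_orderOf Nat.prime_three hx
  have h3 : (1 : ℤ) + dg A * c A + dg B * c B = 0 := by
    have := h2 1 (fun e => hx1 (isConj_one_right.1 e))
    rw [apply_one, apply_one] at this
    exact_mod_cast this
  have dA := two_le_dg hG hA'
  have dB := two_le_dg hG hB'
  wlog hs : c A = 1 ∧ c B = -1 generalizing A B
  · refine this B hB A hA hAB.symm hcB hcA (fun i hi e1 e2 => h0 i hi e2 e1) hB' hA'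
      (fun i hi e1 e2 => h0' i hi e2 e1) (fun g hg => by rw [← h2 g hg]; ring)
      (by rw [← h3]; ring) dB dA ?_
    rcases hcA with e1 | e1 <;> rcases hcB with e2 | e2 <;> rw [e1, e2] at h3 <;> omega
  have ht1 := ne_one_of_orderOf Nat.prime_two ht
  have h4 := count_eq t t x
  rw [sum_eq_three hA' hB' hAB fun χ e1 e2 e3 => by rw [hc1, h0' χ e1 e2 e3]; simp] at h4
  have h5 := h2 t fun e => by have := orderOf_of_isConj e; omega
  simp only [hc1, hs.1, hs.2, hc0, triv_apply, dg_triv] at h4 h5 h3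
  have h6 : ((cl t).filter fun l => IsConj x (t * l)).card ≠ 0 := by
    intro e
    rw [e, Nat.cast_zero, zero_mul, eq_comm, mul_eq_zero] at h4
    have h7 := dg_ne A
    have h8 := dg_ne B
    rcases h4 with h4 | h4
    · exact (card_cl_pos t).ne' (by exact_mod_cast h4)
    have h9 : (dg B : ℂ) = dg A + 1 := by exact_mod_cast (show (dg B : ℤ) = dg A + 1 by omega)
    have h10 : B.1 t = A.1 t + 1 := by push_cast at h5; linear_combination -h5
    simp only [map_intCast] at h4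
    push_cast at h4
    rw [h9] at h8
    rw [h9, h10] at h4
    field_simp at h4
    refine ne_dg hA' ht1 (sub_eq_zero.1 (pow_eq_zero_iff two_ne_zero |>.1 ?_))
    linear_combination h4
  obtain ⟨l, hl⟩ := Finset.card_pos.1 (Nat.pos_of_ne_zero h6)
  rw [Finset.mem_filter, mem_cl] at hl
  obtain ⟨g, hg⟩ := isConj_iff.1 hl.2.symm
  have tt : t * t = 1 := by rw [← pow_two, ← ht, pow_orderOf_eq_one]
  have ll : l * l = 1 := by rw [← pow_two, ← ht, orderOf_of_isConj hl.1, pow_orderOf_eq_one]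
  refine ⟨g * t * g⁻¹, isConj_iff.2 ⟨g, rfl⟩, ?_⟩
  rw [← hg]
  calc _ = g * (t * t * l * t⁻¹) * g⁻¹ := by group
    _ = _ := by rw [tt, one_mul, ← inv_eq_of_mul_eq_one_right ll, inv_eq_of_mul_eq_one_right ll,
      mul_inv_rev, mul_inv_rev, mul_inv_rev, inv_inv, inv_eq_of_mul_eq_one_right ll]; group

theorem l3 {x t u : G} (hx : orderOf x = 3) (hc : cc x = 3) (ht : orderOf t = 2)
    (hu : orderOf u = 2) : IsConj t u := by
  obtain ⟨s, hs, e1⟩ := exists_inverter hG hx hc ht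
  obtain ⟨r, hr, e2⟩ := exists_inverter hG hx hc hu
  have hx3 : x ^ 3 = 1 := hx ▸ pow_orderOf_eq_one x
  have hC : Subgroup.zpowers x = Cz x := Subgroup.eq_of_le_of_card_ge
    (Subgroup.zpowers_le.2 (mem_Cz.2 rfl)) (by rw [Nat.card_zpowers, hx]; exact hc.le)
  refine hs.trans (IsConj.trans ?_ hr.symm)
  have h1 : s⁻¹ * r ∈ Subgroup.zpowers x := by
    rw [hC, mem_Cz]
    calc _ = s⁻¹ * (r * x * r⁻¹) * r := by group
      _ = _ := by rw [e2, ← e1]; group
  have h2 : x * x = x⁻¹ := by rw [eq_inv_iff_mul_eq_one, ← pow_three', hx3]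
  have e3 : x * s = s * x⁻¹ := by
    have := congrArg (·⁻¹) e1
    simp only [mul_inv_rev, inv_inv] at this
    rw [← mul_assoc] at this
    calc _ = s * x⁻¹ * s⁻¹ * s := by rw [this]
      _ = _ := by group
  rcases mem_zpowers_three hx3 h1 with e | e | e
  · rw [inv_mul_eq_one.1 e]
  · refine isConj_iff.2 ⟨x, ?_⟩
    rw [e3, inv_mul_eq_iff_eq_mul.1 e, mul_assoc, ← mul_inv_rev, h2, inv_inv]
  · refine isConj_iff.2 ⟨x⁻¹, ?_⟩
    rw [inv_mul_eq_iff_eq_mul.1 e, inv_inv, ← mul_inv_eq_iff_eq_mul.1 e1, mul_assoc, h2]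

end Simple

end Cfsg.Agent.KCP
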